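import Groth.Prelude.Def_EtZar
import Groth.Prelude.Def_EtCore
import Groth.Agent.Hensel.Sections
import Groth.Agent.SpreadOut.Basic
import Mathlib.CategoryTheory.Sites.DenseSubsite.SheafEquiv
import Mathlib.Algebra.Homology.DerivedCategory.Ext.MapBijective

/-!
# Schemes with strictly henselian local rings

When every local ring is strictly henselian, etale maps are locally sections, so the small etale site has the
same sheaves as the Zariski site.
-/

set_option autoImplicit false
set_option linter.style.haveILetI false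
set_option backward.isDefEq.respectTransparency false
set_option backward.isDefEq.respectTransparency.types false

universe u
open CategoryTheory CategoryTheory.Limits AlgebraicGeometry Opposite TopologicalSpace

noncomputable section

namespace Groth.Agent.ZarEtLib

variable {S : Scheme.{u}} (hS : ∀ s : S, EtCoh.IsStrictlyHenselianLocalRing (S.presheaf.stalk s))

include hS in
/-- Étale maps have local sections through every point. -/
theorem exists_local_section {U : Scheme.{u}} (f : U ⟶ S) [Etale f] (u₀ : U) :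
    ∃ (V : S.Opens) (hx : f u₀ ∈ V) (s : (V : Scheme.{u}) ⟶ U), s ≫ f = V.ι ∧ s ⟨f u₀, hx⟩ = u₀ := by
  let x := f u₀
  obtain ⟨hh, hsep⟩ := hS x
  haveI : HenselianLocalRing (S.presheaf.stalk x) := hh
  haveI : IsSepClosed (IsLocalRing.ResidueField (S.presheaf.stalk x)) := hsep
  let c := S.fromSpecStalk x
  obtain ⟨z, hz1, hz2⟩ := Scheme.Pullback.exists_preimage_pullback (f := f) (g := c) u₀
    (IsLocalRing.closedPoint (S.presheaf.stalk x) : PrimeSpectrum _) (Scheme.fromSpecStalk_closedPoint (X := S) (x := x)).symm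
  obtain ⟨v, hv, hvz⟩ := Hensel.exists_section_of_etale (A := S.presheaf.stalk x) (X := pullback f c) (pullback.snd f c) z hz2
  obtain ⟨V, hxV, s, hs, hsV⟩ := SpreadOut.spread_out' (X := S) (Y := U) (S := S) (𝟙 S) f (x := x) (v ≫ pullback.fst f c)
    ((Category.assoc _ _ _).trans ((congrArg (v ≫ ·) pullback.condition).trans
      (((Category.assoc _ _ _).symm.trans (congrArg (· ≫ c) hv)).trans ((Category.id_comp c).trans (Category.comp_id c).symm))))
  refine ⟨V, hxV, s, by rw [hsV, Category.comp_id], ?_⟩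
  have h : (v ≫ pullback.fst f c) (IsLocalRing.closedPoint (S.presheaf.stalk x) : PrimeSpectrum _) = u₀ := by
    rw [Scheme.Hom.comp_apply]
    exact (congrArg (pullback.fst f c) hvz).trans hz1
  rw [hs, Scheme.Hom.comp_apply] at h
  refine Eq.trans (congrArg s (V.ι.isOpenEmbedding.injective ?_)) h
  rw [← Scheme.Hom.comp_apply, Scheme.Opens.fromSpecStalkOfMem_ι]
  exact (Scheme.fromSpecStalk_closedPoint (X := S) (x := x)).symm

theorem le_of_hom {V W : S.Opens} (g : (EtZar.zarToEt S).obj V ⟶ (EtZar.zarToEt S).obj W) : V ≤ W := fun x hx => by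
  have h : g.left ≫ W.ι = V.ι := MorphismProperty.Over.w g
  have := congr($h ⟨x, hx⟩)
  rw [Scheme.Hom.comp_apply] at this
  show V.ι ⟨x, hx⟩ ∈ W
  rw [← this]
  exact (g.left ⟨x, hx⟩).2

instance full_zarToEt : (EtZar.zarToEt S).Full :=
  ⟨fun {V W} g => ⟨homOfLE (le_of_hom g), MorphismProperty.Over.Hom.ext (by
    show S.homOfLE (le_of_hom g) = g.left
    exact (cancel_mono W.ι).1 ((S.homOfLE_ι _).trans (MorphismProperty.Over.w g).symm))⟩⟩

instance faithful_zarToEt : (EtZar.zarToEt S).Faithful := ⟨fun _ => Subsingleton.elim _ _⟩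

theorem mem_iff (U : S.Etale) (R : Sieve U) :
    R ∈ S.smallEtaleTopology U ↔ ∀ x : U.left, ∃ (Y : S.Etale) (g : Y ⟶ U) (y : Y.left), R g ∧ g.left y = x := by
  have e : S.smallEtaleTopology = (S.smallPretopology (P := EtCoh.etaleMP) (Q := EtCoh.etaleMP)).toGrothendieck :=
    Scheme.smallGrothendieckTopology_eq_toGrothendieck_smallPretopology S le_rfl
  rw [e]
  refine (Scheme.mem_toGrothendieck_smallPretopology U R).trans ?_
  refine forall_congr' fun x => ⟨fun ⟨Y, g, y, h, _, hy⟩ => ⟨Y, g, y, h, hy⟩, fun ⟨Y, g, y, h, hy⟩ =>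
    ⟨Y, g, y, h, ?_, hy⟩⟩
  haveI : Etale U.hom := U.prop
  haveI : Etale (g.left ≫ U.hom) := (MorphismProperty.Over.w g).symm ▸ Y.prop
  exact Etale.of_comp g.left U.hom

include hS in
theorem isDenseSubsite :
    (EtZar.zarToEt S).IsDenseSubsite (Opens.grothendieckTopology S) S.smallEtaleTopology where
  isCoverDense' := ⟨fun U => (mem_iff U _).2 fun x => by
    haveI : Etale U.hom := U.prop
    obtain ⟨V, hxV, s, hs, hsx⟩ := exists_local_section hS (U := U.left) U.hom x
    exact ⟨(EtZar.zarToEt S).obj V, MorphismProperty.Over.homMk s hs, ⟨_, hxV⟩,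
      ⟨⟨V, 𝟙 _, MorphismProperty.Over.homMk s hs, by simp⟩⟩, hsx⟩⟩
  functorPushforward_mem_iff {V R} := by
    rw [mem_iff]
    constructor
    · intro h x hx
      obtain ⟨Y, g, y, ⟨W, k, a, hk, rfl⟩, hy⟩ := h ⟨x, hx⟩
      refine ⟨W, k, hk, ?_⟩
      have hw : ((EtZar.zarToEt S).map k).left ≫ Scheme.Opens.ι V = Scheme.Opens.ι W :=
        MorphismProperty.Over.w ((EtZar.zarToEt S).map k)
      have e : Scheme.Opens.ι W (a.left y) = x :=
        (congr($hw (a.left y))).symm.trans (congrArg (fun z => Scheme.Opens.ι V z) hy)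
      exact e ▸ (a.left y).2
    · intro h z
      obtain ⟨W, k, hk, hxW⟩ := h z.1 z.2
      exact ⟨(EtZar.zarToEt S).obj W, (EtZar.zarToEt S).map k, ⟨z.1, hxW⟩,
        Sieve.image_mem_functorPushforward _ _ hk, (Scheme.Opens.ι V).isOpenEmbedding.injective
          (congr($(MorphismProperty.Over.w ((EtZar.zarToEt S).map k)) ⟨z.1, hxW⟩))⟩

variable [EtZar.ZarCont S]

include hS in
theorem isEquivalence_resZar : (EtZar.resZar S).IsEquivalence := by
  haveI := isDenseSubsite hS
  haveI : ∀ U : S.Etale, HasLimitsOfShape (StructuredArrow (op U) (EtZar.zarToEt S).op) AddCommGrpCat.{u + 1} :=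
    fun U => inferInstance
  infer_instance

/-- The whole space as an étale object. -/
def topIso : (EtZar.zarToEt S).obj ⊤ ≅ EtCoh.top S :=
  MorphismProperty.Over.isoMk S.topIso (Category.comp_id _)

include hS in
/-- Étale cohomology is Zariski cohomology. -/
theorem nonempty_H_equiv (F : EtCoh.Ab S) (i : ℕ) :
    Nonempty (EtCoh.H S F i ≃+ EtZar.H ((EtZar.resZar S).obj F) i) := by
  haveI := isEquivalence_resZar hS
  let R := EtZar.resZar S
  let e := R.asEquivalence
  haveI : R.Additive := Functor.additive_of_preserves_binary_products R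
  haveI : R.PreservesInjectiveObjects :=
    Functor.preservesInjectiveObjects_of_adjunction_of_preservesMonomorphisms e.symm.toAdjunction
  let gz : EtZar.Ab S ⥤ AddCommGrpCat.{u + 1} :=
    (sheafSections (Opens.grothendieckTopology S) AddCommGrpCat.{u + 1}).obj (op ⊤)
  let az : constantSheaf (Opens.grothendieckTopology S) AddCommGrpCat.{u + 1} ⊣ gz :=
    constantSheafAdj (Opens.grothendieckTopology S) AddCommGrpCat.{u + 1} (T := ⊤) isTerminalTop
  let α : R ⋙ gz ≅ EtCore.gsec S :=
    NatIso.ofComponents (fun G => G.obj.mapIso (topIso (S := S)).op.symm)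
      (fun {G G'} φ => (φ.hom.naturality _).symm)
  let c : constantSheaf S.smallEtaleTopology AddCommGrpCat.{u + 1} ⋙ R ≅
      constantSheaf (Opens.grothendieckTopology S) AddCommGrpCat.{u + 1} :=
    Adjunction.leftAdjointUniq (((EtCore.constAdj S).comp e.toAdjunction).ofNatIsoRight
      (Functor.isoWhiskerLeft e.inverse α.symm ≪≫ (Functor.associator _ _ _).symm ≪≫
        Functor.isoWhiskerRight e.counitIso gz ≪≫ gz.leftUnitor)) az
  let cZ := c.app (AddCommGrpCat.of (ULift.{u + 1} ℤ))
  let φ : EtCoh.H S F i →+ EtZar.H (R.obj F) i :=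
    AddMonoidHom.comp
      (AddMonoidHom.mk' (fun x => (Abelian.Ext.mk₀ cZ.inv).comp x (zero_add i))
        (fun _ _ => Abelian.Ext.comp_add _ _ _ _))
      (R.mapExtAddHom _ _ i)
  refine ⟨AddEquiv.ofBijective φ ?_⟩
  have hb := R.mapExt_bijective_of_preservesInjectiveObjects
    ((constantSheaf S.smallEtaleTopology AddCommGrpCat.{u + 1}).obj (AddCommGrpCat.of (ULift.{u + 1} ℤ))) F i
  show Function.Bijective ((fun x => (Abelian.Ext.mk₀ cZ.inv).comp x (zero_add i)) ∘ R.mapExtAddHom _ _ i)
  refine Function.Bijective.comp ?_ hb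
  refine Function.bijective_iff_has_inverse.2 ⟨fun x => (Abelian.Ext.mk₀ cZ.hom).comp x (zero_add i), fun x => ?_, fun x => ?_⟩
  · simp
  · simp

end Groth.Agent.ZarEtLib
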